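import Groth.Agent.FundLocIsoLib.Chain
import Mathlib.RingTheory.Regular.Flat

/-! Killed cocycles below the length of a regular sequence are killed coboundaries. -/

set_option autoImplicit false
set_option linter.style.haveILetI false

universe u

open scoped Pointwise
open Groth.Agent.FundLocIsoLib

noncomputable section

namespace Groth.Agent.RegExtVanLib

variable {S : Type u} [CommRing S] {M : Type u} [AddCommGroup M] [Module S M]

section

variable {R : ℕ → Type u} [∀ q, AddCommGroup (R q)] [∀ q, Module S (R q)]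
  (d : ∀ q, R q →ₗ[S] R (q + 1)) (ε : M →ₗ[S] R 0)

/-- A resolution. -/
structure Res₀ : Prop where
  inj : Function.Injective ε
  zero : ∀ m, d 0 (ε m) = 0
  exact_zero : ∀ z, d 0 z = 0 → ∃ m, ε m = z
  dd : ∀ q (z : R q), d (q + 1) (d q z) = 0
  exact : ∀ q (z : R (q + 1)), d (q + 1) z = 0 → ∃ v, d q v = z

/-- The terms are divisible along a list. -/
def Div : List S → Prop
  | [] => True
  | f :: l => (∀ (q : ℕ) (v : R q), Kill l v → ∃ w, Kill l w ∧ f • w = v) ∧ Div l

/-- The module is regular along a list. -/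
def RegM (M : Type u) [AddCommGroup M] [Module S M] : List S → Prop
  | [] => True
  | f :: l => (∀ m : M, f • m ∈ Ideal.ofList l • (⊤ : Submodule S M) →
      m ∈ Ideal.ofList l • (⊤ : Submodule S M)) ∧ RegM M l

variable {d ε}

variable (H : Res₀ d ε)
include H

theorem chain_cocycle {l : List S} {m : M} {q : ℕ} {z : R q} (h : Chain d ε l m q z) :
    d q z = 0 ∧ Kill l z := by
  induction h with
  | nil m => exact ⟨H.zero m, fun a ha => absurd ha (by simp)⟩
  | cons h hv hf ih => exact ⟨H.dd _ _, kill_cons.2 ⟨by rw [← map_smul, hf, ih.1], hv.map _⟩⟩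

theorem bd_lift₀ {f : S} {l : List S} (hdiv : ∀ (q : ℕ) (v : R q), Kill l v → ∃ w, Kill l w ∧ f • w = v) :
    ∀ {q : ℕ} {y : R q}, Bd d l q y → ∃ v, Kill l v ∧ f • v = y ∧ d q v = 0
  | 0, y, hy => ⟨0, kill_zero l, by rw [smul_zero]; exact hy.symm, map_zero _⟩
  | q + 1, y, ⟨u, hu, e⟩ => by
    obtain ⟨u', hu', e'⟩ := hdiv q u hu
    exact ⟨d q u', hu'.map _, by rw [← map_smul, e', e], H.dd q u'⟩

theorem exists_chain₀ : ∀ {l : List S}, Div (R := R) l → ∀ m : M, ∃ z, Chain d ε l m l.length z
  | [], _, m => ⟨ε m, .nil m⟩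
  | f :: l, h, m => by
    obtain ⟨z, hz⟩ := exists_chain₀ h.2 m
    obtain ⟨v, hv, e⟩ := h.1 _ z (chain_cocycle H hz).2
    exact ⟨d _ v, .cons hz hv e⟩

theorem main₀ : ∀ {l : List S}, Div (R := R) l → RegM M l →
    (∀ (q : ℕ) (z : R q), q ≠ l.length → d q z = 0 → Kill l z → Bd d l q z) ∧
    (∀ z : R l.length, d _ z = 0 → Kill l z → ∃ m z', Chain d ε l m l.length z' ∧ Bd d l l.length (z - z')) ∧
    (∀ (m : M) (z : R l.length), Chain d ε l m l.length z →
      (Bd d l l.length z ↔ m ∈ Ideal.ofList l • (⊤ : Submodule S M)))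
  | [], _, _ => by
    refine ⟨fun q z hq hz _ => ?_, fun z hz _ => ?_, fun m z hc => ?_⟩
    · obtain ⟨q, rfl⟩ : ∃ j, q = j + 1 := ⟨q - 1, by simp only [List.length_nil] at hq; omega⟩
      obtain ⟨v, hv⟩ := H.exact q z hz
      exact ⟨v, fun a ha => absurd ha (by simp), hv⟩
    · obtain ⟨m, hm⟩ := H.exact_zero z hz
      exact ⟨m, ε m, .nil m, by rw [hm, sub_self]; rfl⟩
    · cases hc
      show ε m = 0 ↔ _
      rw [Ideal.ofList_nil, Submodule.bot_smul, Submodule.mem_bot, map_eq_zero_iff ε H.inj]
  | f :: l, h, hM => by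
    obtain ⟨off, surj, ker⟩ := main₀ h.2 hM.2
    -- a cocycle killed by the whole list is a coboundary of an element killed by `l`
    have first : ∀ (q : ℕ) (z : R q), d q z = 0 → Kill (f :: l) z → Bd d l q z := by
      intro q z hz hk
      obtain ⟨hfz, hkz⟩ := kill_cons.1 hk
      by_cases hq : q = l.length
      · subst hq
        obtain ⟨m, z', hc, hb⟩ := surj z hz hkz
        have h1 : Bd d l l.length (f • z') := by
          have h2 : f • z' = (-1 : S) • (f • (z - z')) := by rw [smul_sub, hfz, zero_sub, neg_one_smul, neg_neg]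
          rw [h2]
          exact (hb.smul f).smul (-1)
        have h3 := (ker m z' hc).2 (hM.1 m ((ker _ _ (hc.smul f)).1 h1))
        simpa using hb.add h3
      · exact off q z hq hz hkz
    refine ⟨fun q z hq hz hk => ?_, fun z hz hk => ?_, fun m z hc => ?_⟩
    · cases q with
      | zero => exact first 0 z hz hk
      | succ q =>
        obtain ⟨hfz, hkz⟩ := kill_cons.1 hk
        obtain ⟨v, hv, rfl⟩ := first (q + 1) z hz hk
        obtain ⟨v', hv', e', d'⟩ := bd_lift₀ H h.1
          (off q (f • v) (by simp only [List.length_cons] at hq; omega) (by rw [map_smul, hfz]) (hv.smul f))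
        exact ⟨v - v', kill_cons.2 ⟨by rw [smul_sub, e', sub_self], hv.sub hv'⟩, by rw [map_sub, d', sub_zero]⟩
    · obtain ⟨hfz, hkz⟩ := kill_cons.1 hk
      obtain ⟨v, hv, rfl⟩ := off (l.length + 1) z (Nat.succ_ne_self _) hz hkz
      obtain ⟨m, z', hc, hb⟩ := surj (f • v) (by rw [map_smul, hfz]) (hv.smul f)
      obtain ⟨v', hv', e', d'⟩ := bd_lift₀ H h.1 hb
      refine ⟨m, d _ (v - v'), .cons hc (hv.sub hv') (by rw [smul_sub, e', sub_sub_cancel]), ?_⟩
      rw [map_sub, d', sub_zero, sub_self]
      exact bd_zero _ _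
    · rw [Ideal.ofList_cons, Submodule.sup_smul]
      cases hc with
      | @cons _ _ _ z₀ v _ hc hv hf =>
        constructor
        · rintro ⟨u, hu, e⟩
          obtain ⟨hfu, hku⟩ := kill_cons.1 hu
          obtain ⟨m', z', hc', hb'⟩ := surj (v - u) (by rw [map_sub, e, sub_self]) (hv.sub hku)
          have h1 := (hc.sub (hc'.smul f))
          have h2 : Bd d l l.length (z₀ - f • z') := by
            have : z₀ - f • z' = f • ((v - u) - z') := by rw [smul_sub, smul_sub, hfu, sub_zero, hf]
            rw [this]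
            exact hb'.smul f
          have h3 := (ker _ _ h1).1 h2
          refine Submodule.mem_sup.2 ⟨f • m', Submodule.smul_mem_smul (Ideal.mem_span_singleton_self f) trivial,
            _, h3, add_sub_cancel _ _⟩
        · intro hm
          obtain ⟨a, ha, b, hb, rfl⟩ := Submodule.mem_sup.1 hm
          rw [Submodule.ideal_span_singleton_smul] at ha
          obtain ⟨m', -, rfl⟩ := (Submodule.mem_smul_pointwise_iff_exists _ _ _).1 ha
          obtain ⟨z', hc'⟩ := exists_chain₀ H h.2 m'
          have h1 := hc.sub (hc'.smul f)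
          rw [add_sub_cancel_left] at h1
          obtain ⟨v', hv', e', d'⟩ := bd_lift₀ H h.1 ((ker _ _ h1).2 hb)
          refine ⟨v - v' - z', kill_cons.2 ⟨?_, (hv.sub hv').sub (chain_cocycle H hc').2⟩, ?_⟩
          · rw [smul_sub, smul_sub, hf, e', sub_sub_cancel, sub_self]
          · rw [map_sub, map_sub, d', (chain_cocycle H hc').1, sub_zero, sub_zero]

end

theorem ofList_reverse (rs : List S) : Ideal.ofList rs.reverse = Ideal.ofList rs := by
  simp [Ideal.ofList]

/-- Regularity modulo an ideal passes to free modules. -/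
theorem regular_free [Module.Free S M] {I : Ideal S} {f : S} (hf : ∀ a, f * a ∈ I → a ∈ I) (m : M)
    (hm : f • m ∈ I • (⊤ : Submodule S M)) : m ∈ I • (⊤ : Submodule S M) := by
  let b := Module.Free.chooseBasis S M
  have hc : ∀ x ∈ I • (⊤ : Submodule S M), ∀ i, b.repr x i ∈ I := by
    intro x hx i
    refine Submodule.smul_induction_on (p := fun x => b.repr x i ∈ I) hx (fun r hr n _ => ?_)
      (fun x y hx hy => by rw [map_add]; exact I.add_mem hx hy)
    rw [map_smul, Finsupp.smul_apply, smul_eq_mul]
    exact I.mul_mem_right _ hr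
  rw [← b.linearCombination_repr m, Finsupp.linearCombination_apply]
  refine Submodule.sum_mem _ fun i _ => Submodule.smul_mem_smul (hf _ ?_) trivial
  have h1 := hc _ hm i
  rwa [map_smul, Finsupp.smul_apply, smul_eq_mul] at h1

open RingTheory.Sequence in
/-- A regular sequence, read backwards, is regular on every free module. -/
theorem regM_reverse [Module.Free S M] (rs : List S) (h : IsWeaklyRegular S rs) :
    RegM M rs.reverse := by
  induction rs using List.reverseRecOn with
  | nil => exact trivial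
  | append_singleton l f ih =>
    rw [List.reverse_append, List.reverse_singleton, List.singleton_append]
    have h' := (isWeaklyRegular_append_iff S l [f]).1 h
    refine ⟨fun m hm => ?_, ih h'.1⟩
    rw [ofList_reverse] at hm ⊢
    refine regular_free (fun a ha => ?_) m hm
    have h2 : IsSMulRegular (S ⧸ (Ideal.ofList l • (⊤ : Submodule S S))) f :=
      ((isWeaklyRegular_cons_iff _ f []).1 h'.2).1
    have e : Ideal.ofList l • (⊤ : Submodule S S) = Ideal.ofList l := by
      rw [smul_eq_mul, Ideal.mul_top]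
    rw [e] at h2
    have h3 : f • (Ideal.Quotient.mk (Ideal.ofList l) a) = f • 0 := by
      rw [smul_zero, ← Ideal.Quotient.mk_eq_mk, ← Submodule.Quotient.mk_smul, smul_eq_mul]
      exact (Submodule.Quotient.mk_eq_zero _).2 ha
    exact Ideal.Quotient.eq_zero_iff_mem.1 (h2 h3)

end Groth.Agent.RegExtVanLib
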