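import Groth.Agent.RegExtVanLib.Algebra
import Groth.Agent.SubLib.Basic
import Groth.Agent.ParaFLib.Stalk
import Groth.Agent.DCohLib.StalkKFlat
import Groth.Agent.DCohLib.Restrict
import Groth.Agent.S11327

/-! Injective modules are divisible along regular sequences. -/

set_option autoImplicit false
set_option backward.isDefEq.respectTransparency false
set_option linter.style.haveILetI false

universe u

open CategoryTheory CategoryTheory.Limits AlgebraicGeometry TopologicalSpace Opposite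
open Groth.Agent.PullbackMod Groth.Agent.DCohLib Groth.Agent.FundLocIsoLib RingTheory.Sequence

noncomputable section

namespace Groth.Agent.RegExtVanLib

variable {X : Scheme.{u}}

theorem weaklyRegular_germ {U : X.Opens} (hU : IsAffineOpen U) (x : X) (hx : x ∈ U) {rs : List Γ(X, U)}
    (h : IsWeaklyRegular Γ(X, U) rs) :
    IsWeaklyRegular (X.presheaf.stalk x) (rs.map (X.presheaf.germ U x hx).hom) := by
  letI : Algebra Γ(X, U) (X.presheaf.stalk x) := (X.presheaf.germ U x hx).hom.toAlgebra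
  haveI : IsLocalization.AtPrime (X.presheaf.stalk x) (hU.primeIdealOf ⟨x, hx⟩).asIdeal :=
    hU.isLocalization_stalk ⟨x, hx⟩
  haveI : Module.Flat Γ(X, U) (X.presheaf.stalk x) :=
    IsLocalization.flat _ (hU.primeIdealOf ⟨x, hx⟩).asIdeal.primeCompl
  exact h.of_flat

theorem weaklyRegular_res {U : X.Opens} (hU : IsAffineOpen U) (g : Γ(X, U)) (W : X.Opens)
    (e : W = X.basicOpen g) (hW : W ≤ U) {rs : List Γ(X, U)} (h : IsWeaklyRegular Γ(X, U) rs) :
    IsWeaklyRegular Γ(X, W) (rs.map (X.presheaf.map (homOfLE hW).op).hom) := by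
  subst e
  letI : Algebra Γ(X, U) Γ(X, X.basicOpen g) := (X.presheaf.map (homOfLE hW).op).hom.toAlgebra
  haveI : IsLocalization.Away g Γ(X, X.basicOpen g) := hU.isLocalization_basicOpen g
  haveI : Module.Flat Γ(X, U) Γ(X, X.basicOpen g) := IsLocalization.flat _ (Submonoid.powers g)
  exact h.of_flat

theorem prefix_regular {S : Type u} [CommRing S] {l : List S} {f : S} (h : IsWeaklyRegular S (f :: l).reverse) :
    IsWeaklyRegular S l.reverse := by
  rw [List.reverse_cons] at h
  exact ((isWeaklyRegular_append_iff S l.reverse [f]).1 h).1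

/-- Global version on an affine scheme. -/
theorem exists_div_top {V : Scheme.{u}} (hV : IsAffineOpen (⊤ : V.Opens)) (J : V.Modules) (hJ : Injective J)
    (l : List Γ(V, ⊤)) (f : Γ(V, ⊤)) (hreg : IsWeaklyRegular Γ(V, ⊤) (f :: l).reverse)
    (v : Γ(J, ⊤)) (hv : Kill l v) : ∃ w : Γ(J, ⊤), Kill l w ∧ f • w = v := by
  haveI := hJ
  let O := Coh.structureModule V
  let G : ∀ x : V, Γ(V, ⊤) → V.presheaf.stalk x := fun x a => V.presheaf.germ ⊤ x trivial a
  let I : ∀ x : V, Ideal (V.presheaf.stalk x) := fun x => Ideal.ofList (l.map (G x))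
  let N : SubLib.StalkSub O := fun x => Submodule.map (LinearMap.toSpanSingleton (V.presheaf.stalk x) (O.presheaf.stalk x) (ParaFLib.oneG x)) (I x)
  have hN : ∀ (x : V) (a : V.presheaf.stalk x), a • ParaFLib.oneG x ∈ N x ↔ a ∈ I x := fun x a => by
    constructor
    · rintro ⟨b, hb, e⟩
      exact (ParaFLib.bijective_oneG x).1 e ▸ hb
    · exact fun h => ⟨a, h, rfl⟩
  have hreg' : ∀ (x : V) (a : V.presheaf.stalk x), G x f * a ∈ I x → a ∈ I x := fun x a ha => by
    have h1 := weaklyRegular_germ hV x trivial hreg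
    rw [List.map_reverse, List.map_cons] at h1
    have h2 := regM_reverse (M := V.presheaf.stalk x) _ h1
    rw [List.reverse_reverse] at h2
    have h3 := h2.1 a (by rw [smul_eq_mul, smul_eq_mul, Ideal.mul_top]; exact ha)
    rwa [smul_eq_mul, Ideal.mul_top] at h3
  let μ : O ⟶ O := secHom O f
  let φ : O ⟶ J := secHom J v
  have hμ1 : ∀ x, stalkLin μ x (ParaFLib.oneG x) = G x f • ParaFLib.oneG x := fun x => by
    refine (ParaFLib.stalkLin_unit_endo μ x).trans ?_
    have e : μ.app ⊤ (1 : Γ(V, ⊤)) = f := by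
      refine (secHom_app_one O f ⊤).trans ?_
      rw [show (homOfLE (le_top : (⊤ : V.Opens) ≤ ⊤)).op = 𝟙 _ from rfl, O.presheaf.map_id]
      rfl
    rw [e]
  have hμ : ∀ (x : V) (z : O.presheaf.stalk x), z ∈ N x → stalkLin μ x z ∈ N x := by
    intro x z hz
    obtain ⟨b, rfl⟩ := (ParaFLib.bijective_oneG x).2 z
    rw [map_smul, hμ1, smul_smul, hN]
    exact (I x).mul_mem_right _ ((hN x b).1 hz)
  let μ' : SubLib.subMod N ⟶ SubLib.subMod N :=
    { val := PresheafOfModules.homMk
        { app := fun U => AddCommGrpCat.ofHom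
            { toFun := fun s => (⟨μ.app U.unop s.1, fun x hx => by
                rw [← stalkLin_germ]; exact hμ x _ (s.2 x hx)⟩ : SubLib.sec N U.unop)
              map_zero' := Subtype.ext (map_zero (μ.app U.unop).hom)
              map_add' := fun a b => Subtype.ext (map_add (μ.app U.unop).hom a.1 b.1) }
          naturality := fun U W i => AddCommGrpCat.hom_ext (AddMonoidHom.ext fun s =>
            Subtype.ext (ConcreteCategory.congr_hom (μ.mapPresheaf.naturality i) s.1)) }
        fun U r s => Subtype.ext (Scheme.Modules.Hom.app_smul μ r s.1) }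
  have hμ' : μ' ≫ SubLib.subι N = SubLib.subι N ≫ μ :=
    Scheme.Modules.hom_ext _ _ fun U => AddCommGrpCat.hom_ext (AddMonoidHom.ext fun s => rfl)
  let μQ : cokernel (SubLib.subι N) ⟶ cokernel (SubLib.subι N) :=
    cokernel.map (SubLib.subι N) (SubLib.subι N) μ' μ hμ'.symm
  have hπ : ∀ (x : V) (a : V.presheaf.stalk x),
      stalkLin (cokernel.π (SubLib.subι N)) x (a • ParaFLib.oneG x) = 0 ↔ a ∈ I x := by
    intro x a
    constructor
    · intro h0
      have hS : (ShortComplex.mk (SubLib.subι N) (cokernel.π (SubLib.subι N)) (cokernel.condition _)).Exact :=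
        ShortComplex.exact_of_g_is_cokernel _ (cokernelIsCokernel _)
      obtain ⟨z, hz⟩ := (ShortComplex.moduleCat_exact_iff _).1 (hS.map (stkF x)) _ h0
      change stalkLin (SubLib.subι N) x z = a • ParaFLib.oneG x at hz
      obtain ⟨W, hxW, s, rfl⟩ := TopCat.Presheaf.exists_germ_eq (SubLib.subMod N).presheaf z
      rw [stalkLin_germ] at hz
      rw [← hN, ← hz]
      exact SubLib.mem_sec_of_app N W s x hxW
    · intro ha
      induction ha using Submodule.span_induction with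
      | mem b hb =>
        obtain ⟨r, hr, rfl⟩ := List.mem_map.1 hb
        have hs : (r : Γ(O, ⊤)) ∈ SubLib.sec N ⊤ := fun y hy => by
          rw [show O.presheaf.germ ⊤ y hy (r : Γ(O, ⊤)) = G y r • ParaFLib.oneG y from
            ((congrArg _ (ParaFLib.smul_one_eq r).symm).trans (SubLib.germ_smul' (M := O) ⊤ y hy r (1 : Γ(V, ⊤)))), hN]
          exact Ideal.subset_span (List.mem_map_of_mem hr)
        have e : G x r • ParaFLib.oneG x = stalkLin (SubLib.subι N) x ((SubLib.subMod N).presheaf.germ ⊤ x trivial ⟨_, hs⟩) := by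
          rw [stalkLin_germ]
          exact ((congrArg _ (ParaFLib.smul_one_eq r).symm).trans (SubLib.germ_smul' (M := O) ⊤ x trivial r (1 : Γ(V, ⊤)))).symm
        rw [e, ← LinearMap.comp_apply, ← stalkLin_comp, cokernel.condition, (eq_zero_iff_stalk _).1 rfl x]
        rfl
      | zero => rw [zero_smul, map_zero]
      | add b c _ _ hb hc => rw [add_smul, map_add, hb, hc, add_zero]
      | smul c b _ hb => rw [smul_assoc, map_smul, hb, smul_zero]
  haveI : Mono μQ := by
    refine (mono_iff_stalk _).2 fun x => (injective_iff_map_eq_zero _).2 fun z hz => ?_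
    obtain ⟨z, rfl⟩ := (epi_iff_stalk (cokernel.π (SubLib.subι N))).1 inferInstance x z
    obtain ⟨b, rfl⟩ := (ParaFLib.bijective_oneG x).2 z
    rw [← LinearMap.comp_apply, ← stalkLin_comp, cokernel.π_desc, stalkLin_comp, LinearMap.comp_apply,
      map_smul (stalkLin μ x), hμ1, smul_smul, hπ] at hz
    exact (hπ x b).2 (hreg' x b (by rwa [mul_comm]))
  have hφ : SubLib.subι N ≫ φ = 0 := by
    refine (eq_zero_iff_stalk _).2 fun x => LinearMap.ext fun z => ?_
    obtain ⟨W, hxW, s, rfl⟩ := TopCat.Presheaf.exists_germ_eq (SubLib.subMod N).presheaf z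
    obtain ⟨b, hb, e⟩ := SubLib.mem_sec_of_app N W s x hxW
    change b • ParaFLib.oneG x = _ at e
    rw [stalkLin_comp, LinearMap.comp_apply, stalkLin_germ, ← e, map_smul, LinearMap.zero_apply]
    have h1 : stalkLin φ x (ParaFLib.oneG x) = J.presheaf.germ ⊤ x trivial v := by
      refine (stalkLin_germ φ (U := ⊤) x trivial (1 : Γ(V, ⊤))).trans (congrArg _ ((secHom_app_one J v ⊤).trans ?_))
      rw [show (homOfLE (le_top : (⊤ : V.Opens) ≤ ⊤)).op = 𝟙 _ from rfl, J.presheaf.map_id]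
      rfl
    rw [h1]
    refine kill_iff_span.1 (fun a ha => ?_) b hb
    obtain ⟨r, hr, rfl⟩ := List.mem_map.1 ha
    rw [← SubLib.germ_smul', hv r hr, map_zero]
  let g := Injective.factorThru (cokernel.desc (SubLib.subι N) φ hφ) μQ
  let ψ : O ⟶ J := cokernel.π (SubLib.subι N) ≫ g
  have hψ : ∀ a : Γ(V, ⊤), a • ψ.app ⊤ (1 : Γ(V, ⊤)) = ψ.app ⊤ a := fun a =>
    (Scheme.Modules.Hom.app_smul ψ a (1 : Γ(V, ⊤))).symm.trans (congrArg _ (ParaFLib.smul_one_eq a))
  refine ⟨ψ.app ⊤ (1 : Γ(V, ⊤)), fun a ha => ?_, ?_⟩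
  · rw [hψ]
    have hs : (a : Γ(O, ⊤)) ∈ SubLib.sec N ⊤ := fun y hy => by
      rw [show O.presheaf.germ ⊤ y hy (a : Γ(O, ⊤)) = G y a • ParaFLib.oneG y from
        ((congrArg _ (ParaFLib.smul_one_eq a).symm).trans (SubLib.germ_smul' (M := O) ⊤ y hy a (1 : Γ(V, ⊤)))), hN]
      exact Ideal.subset_span (List.mem_map_of_mem ha)
    have h0 : SubLib.subι N ≫ ψ = 0 := by rw [← Category.assoc, cokernel.condition, zero_comp]
    exact congr(($h0).app ⊤ ⟨_, hs⟩)
  · rw [hψ]
    have h1 : μ ≫ ψ = φ := by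
      show μ ≫ cokernel.π _ ≫ g = φ
      rw [← Category.assoc, show μ ≫ cokernel.π (SubLib.subι N) = cokernel.π (SubLib.subι N) ≫ μQ from
        (cokernel.π_desc _ _ _).symm, Category.assoc, Injective.comp_factorThru, cokernel.π_desc]
    have h2 := congr(($h1).app ⊤ (1 : Γ(V, ⊤)))
    rw [Scheme.Modules.Hom.comp_app, ConcreteCategory.comp_apply] at h2
    rw [show μ.app ⊤ (1 : Γ(V, ⊤)) = f from (secHom_app_one O f ⊤).trans (by
      rw [show (homOfLE (le_top : (⊤ : V.Opens) ≤ ⊤)).op = 𝟙 _ from rfl, O.presheaf.map_id]; rfl)] at h2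
    refine h2.trans ((secHom_app_one J v ⊤).trans ?_)
    rw [show (homOfLE (le_top : (⊤ : V.Opens) ≤ ⊤)).op = 𝟙 _ from rfl, J.presheaf.map_id]
    rfl

theorem exists_kill_res (J : X.Modules) {U : X.Opens} {x : X} (hx : x ∈ U) {W : X.Opens} (hxW : x ∈ W) (hWU : W ≤ U)
    (s : Γ(J, W)) : ∀ l : List Γ(X, U),
    (∀ a ∈ l, X.presheaf.germ U x hx a • J.presheaf.germ W x hxW s = 0) →
    ∃ (W' : X.Opens) (i : W' ≤ W), x ∈ W' ∧ ∀ a ∈ l,
      X.presheaf.map (homOfLE (i.trans hWU)).op a • J.presheaf.map (homOfLE i).op s = 0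
  | [], _ => ⟨W, le_rfl, hxW, fun a ha => absurd ha (by simp)⟩
  | b :: l, h => by
    obtain ⟨W₁, i₁, hx₁, h₁⟩ := exists_kill_res J hx hxW hWU s l fun a ha => h a (List.mem_cons_of_mem _ ha)
    have hb : J.presheaf.germ W x hxW (X.presheaf.map (homOfLE hWU).op b • s) = J.presheaf.germ W x hxW 0 := by
      rw [SubLib.germ_smul', TopCat.Presheaf.germ_res_apply, h b List.mem_cons_self, map_zero]
    obtain ⟨W₂, hx₂, iA, iB, e⟩ := TopCat.Presheaf.germ_eq J.presheaf x hxW hxW _ _ hb
    refine ⟨W₁ ⊓ W₂, inf_le_left.trans i₁, ⟨hx₁, hx₂⟩, fun a ha => ?_⟩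
    rcases List.mem_cons.1 ha with rfl | ha
    · have e2 := congrArg (J.presheaf.map (homOfLE (inf_le_right : W₁ ⊓ W₂ ≤ W₂)).op) e
      rw [map_zero, map_zero, ← ConcreteCategory.comp_apply, ← Functor.map_comp,
        show iA.op ≫ (homOfLE (inf_le_right : W₁ ⊓ W₂ ≤ W₂)).op =
          (homOfLE ((inf_le_left : W₁ ⊓ W₂ ≤ W₁).trans i₁)).op from Subsingleton.elim _ _,
        Scheme.Modules.map_smul, ← ConcreteCategory.comp_apply, ← Functor.map_comp] at e2
      exact e2
    · have e2 := congrArg (J.presheaf.map (homOfLE (inf_le_left : W₁ ⊓ W₂ ≤ W₁)).op) (h₁ a ha)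
      rw [map_zero, Scheme.Modules.map_smul, ← ConcreteCategory.comp_apply, ← Functor.map_comp,
        ← ConcreteCategory.comp_apply, ← Functor.map_comp] at e2
      exact e2

/-- Stalks of injective modules are divisible along regular sequences. -/
theorem exists_div_stalk (J : X.Modules) (hJ : Injective J) {U : X.Opens} (hU : IsAffineOpen U) (x : X) (hx : x ∈ U)
    (l : List Γ(X, U)) (f : Γ(X, U)) (hreg : IsWeaklyRegular Γ(X, U) (f :: l).reverse)
    (v : J.presheaf.stalk x) (hv : Kill (l.map (X.presheaf.germ U x hx).hom) v) :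
    ∃ w, Kill (l.map (X.presheaf.germ U x hx).hom) w ∧ X.presheaf.germ U x hx f • w = v := by
  obtain ⟨W₀, hxW₀, s₀, rfl⟩ := TopCat.Presheaf.exists_germ_eq J.presheaf v
  let s₁ := J.presheaf.map (homOfLE (inf_le_left : W₀ ⊓ U ≤ W₀)).op s₀
  have hs₁ : J.presheaf.germ (W₀ ⊓ U) x ⟨hxW₀, hx⟩ s₁ = J.presheaf.germ W₀ x hxW₀ s₀ :=
    TopCat.Presheaf.germ_res_apply _ _ _ _ _
  obtain ⟨W', i, hxW', hk⟩ := exists_kill_res J hx (W := W₀ ⊓ U) ⟨hxW₀, hx⟩ inf_le_right s₁ l fun a ha => by
    rw [hs₁]; exact hv _ (List.mem_map_of_mem ha)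
  obtain ⟨g, hgW, hxg⟩ := hU.exists_basicOpen_le ⟨x, hxW'⟩ hx
  let D : X.Opens := X.basicOpen g
  let W : X.Opens := D.ι ''ᵁ ⊤
  have hWD : W = D := D.ι_image_top
  have hWU : W ≤ U := hWD.le.trans (X.basicOpen_le g)
  have hxW : x ∈ W := hWD.symm ▸ hxg
  have hWW : W ≤ W₀ ⊓ U := (hWD.le.trans hgW).trans i
  let r : Γ(X, U) →+* Γ(X, W) := (X.presheaf.map (homOfLE hWU).op).hom
  haveI : IsAffine D.toScheme := hU.basicOpen g
  have hkD : ∀ a ∈ l, r a • J.presheaf.map (homOfLE hWW).op s₁ = 0 := fun a ha => by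
    have e2 := congrArg (J.presheaf.map (homOfLE (hWD.le.trans hgW)).op) (hk a ha)
    rw [map_zero, Scheme.Modules.map_smul, ← ConcreteCategory.comp_apply, ← Functor.map_comp,
      ← ConcreteCategory.comp_apply, ← Functor.map_comp] at e2
    exact e2
  have hsm : ∀ (a : Γ(X, W)) (m : Γ(J, W)),
      (show Γ(J, W) from ((show Γ(D.toScheme, ⊤) from a) • (show Γ(J.restrict D.ι, ⊤) from m))) = a • m := fun a m => by
    have h := congr($(Scheme.Modules.smul_restrictAppIso_hom D.ι J ⊤ (show Γ(D.toScheme, ⊤) from a)) m)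
    rw [Scheme.Opens.ι_appIso] at h
    exact h
  obtain ⟨w, hw, hfw⟩ := exists_div_top (isAffineOpen_top D.toScheme) (J.restrict D.ι) (S11327.result X D J hJ)
    (l.map r) (r f) (by
      rw [← List.map_cons, ← List.map_reverse]
      exact weaklyRegular_res hU g W hWD hWU hreg)
    (show Γ(J, W) from J.presheaf.map (homOfLE hWW).op s₁) (fun a ha => by
      obtain ⟨b, hb, rfl⟩ := List.mem_map.1 ha
      exact (hsm _ _).trans (hkD b hb))
  have hgerm : ∀ a : Γ(X, U), X.presheaf.germ W x hxW (r a) = X.presheaf.germ U x hx a := fun a =>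
    TopCat.Presheaf.germ_res_apply _ _ _ _ _
  refine ⟨J.presheaf.germ W x hxW (show Γ(J, W) from w), fun a ha => ?_, ?_⟩
  · obtain ⟨b, hb, rfl⟩ := List.mem_map.1 ha
    rw [← hgerm, ← SubLib.germ_smul']
    exact (congrArg (J.presheaf.germ W x hxW) ((hsm (r b) w).symm.trans
      (hw (r b) (List.mem_map_of_mem hb)))).trans (map_zero _)
  · rw [← hgerm, ← SubLib.germ_smul']
    refine (congrArg (J.presheaf.germ W x hxW) ((hsm (r f) w).symm.trans hfw)).trans ?_
    exact (TopCat.Presheaf.germ_res_apply _ _ _ _ _).trans hs₁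

end Groth.Agent.RegExtVanLib
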