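import Groth.Agent.RegExtVanLib.Kill

/-! The ideals of a regularly immersed closed subscheme. -/

set_option autoImplicit false
set_option backward.isDefEq.respectTransparency false
set_option linter.style.haveILetI false

universe u

open CategoryTheory CategoryTheory.Limits AlgebraicGeometry TopologicalSpace Opposite
open RingTheory.Sequence

noncomputable section

namespace Groth.Agent.RegExtVanLib

variable {X Z : Scheme.{u}} (i : Z ⟶ X)

theorem app_res_eq_zero {U V : X.Opens} (h : V ≤ U) {a : Γ(X, U)} (ha : i.app U a = 0) :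
    i.app V (X.presheaf.map (homOfLE h).op a) = 0 := by
  rw [← CommRingCat.comp_apply, i.naturality, CommRingCat.comp_apply, ha, map_zero]

/-- The germs of local functions vanishing on `Z`. -/
def idealAt (x : X) : Ideal (X.presheaf.stalk x) where
  carrier := {a | ∃ (U : X.Opens) (hx : x ∈ U) (s : Γ(X, U)), X.presheaf.germ U x hx s = a ∧ i.app U s = 0}
  zero_mem' := ⟨⊤, trivial, 0, map_zero _, map_zero _⟩
  add_mem' := by
    rintro _ _ ⟨U, hx, s, rfl, hs⟩ ⟨V, hy, t, rfl, ht⟩
    refine ⟨U ⊓ V, ⟨hx, hy⟩, X.presheaf.map (homOfLE inf_le_left).op s + X.presheaf.map (homOfLE inf_le_right).op t, ?_, ?_⟩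
    · rw [map_add, TopCat.Presheaf.germ_res_apply, TopCat.Presheaf.germ_res_apply]
    · rw [map_add, app_res_eq_zero i _ hs, app_res_eq_zero i _ ht, add_zero]
  smul_mem' := by
    rintro r _ ⟨U, hx, s, rfl, hs⟩
    obtain ⟨V, hy, t, rfl⟩ := TopCat.Presheaf.exists_germ_eq X.presheaf r
    refine ⟨U ⊓ V, ⟨hx, hy⟩, X.presheaf.map (homOfLE inf_le_right).op t * X.presheaf.map (homOfLE inf_le_left).op s, ?_, ?_⟩
    · rw [map_mul, TopCat.Presheaf.germ_res_apply, TopCat.Presheaf.germ_res_apply, smul_eq_mul]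
    · rw [map_mul, app_res_eq_zero i _ hs, mul_zero]

theorem killed_pushforward (F : Z.Modules) : Killed (idealAt i) ((Scheme.Modules.pushforward i).obj F) := by
  rintro x _ ⟨U, hx, s, rfl, hs⟩ z
  obtain ⟨V, hy, m, rfl⟩ := TopCat.Presheaf.exists_germ_eq ((Scheme.Modules.pushforward i).obj F).presheaf z
  rw [← TopCat.Presheaf.germ_res_apply X.presheaf (homOfLE (inf_le_left : U ⊓ V ≤ U)) x ⟨hx, hy⟩ s,
    ← TopCat.Presheaf.germ_res_apply ((Scheme.Modules.pushforward i).obj F).presheaf (homOfLE (inf_le_right : U ⊓ V ≤ V)) x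
      ⟨hx, hy⟩ m, ← SubLib.germ_smul']
  refine (congrArg _ ?_).trans (map_zero _)
  show i.app (U ⊓ V) (X.presheaf.map (homOfLE inf_le_left).op s) • (show Γ(F, i ⁻¹ᵁ (U ⊓ V)) from _) = 0
  rw [app_res_eq_zero i _ hs, zero_smul]

variable [IsClosedImmersion i]

theorem idealAt_eq {U : X.Opens} (hU : IsAffineOpen U) (rs : List Γ(X, U))
    (hrs : RingHom.ker (i.app U).hom = Ideal.ofList rs) (y : X) (hy : y ∈ U) :
    idealAt i y = Ideal.ofList (rs.map (X.presheaf.germ U y hy).hom) := by
  refine le_antisymm ?_ (Ideal.span_le.2 fun a ha => ?_)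
  · rintro _ ⟨V, hyV, s, rfl, hs⟩
    obtain ⟨f, hfV, hyf⟩ := hU.exists_basicOpen_le ⟨y, hyV⟩ hy
    letI : Algebra Γ(X, U) Γ(X, X.basicOpen f) := (X.presheaf.map (homOfLE (X.basicOpen_le f)).op).hom.toAlgebra
    haveI : IsLocalization.Away f Γ(X, X.basicOpen f) := hU.isLocalization_basicOpen f
    obtain ⟨⟨s', ⟨_, n, rfl⟩⟩, he⟩ := IsLocalization.surj (Submonoid.powers f) (X.presheaf.map (homOfLE hfV).op s)
    change X.presheaf.map (homOfLE hfV).op s * X.presheaf.map (homOfLE (X.basicOpen_le f)).op (f ^ n) =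
      X.presheaf.map (homOfLE (X.basicOpen_le f)).op s' at he
    have h0 : i.app (X.basicOpen f) (X.presheaf.map (homOfLE (X.basicOpen_le f)).op s') = 0 := by
      rw [← he, map_mul, app_res_eq_zero i hfV hs, zero_mul]
    obtain ⟨m, hm⟩ := exists_pow_mul_eq_zero_of_res_basicOpen_eq_zero_of_isAffineOpen Z (hU.preimage i)
      (i.app U s') (i.app U f) (by
        have h1 : Z.presheaf.map (homOfLE (i.preimage_mono (X.basicOpen_le f))).op (i.app U s') = 0 := by
          rw [← h0, ← CommRingCat.comp_apply, ← CommRingCat.comp_apply, i.naturality]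
          rfl
        have h2 := congrArg (Z.presheaf.map (homOfLE (le_of_eq (Scheme.preimage_basicOpen i f).symm)).op) h1
        rw [map_zero, ← ConcreteCategory.comp_apply, ← Functor.map_comp] at h2
        exact h2)
    have hmem : f ^ m * s' ∈ Ideal.ofList rs := by
      rw [← hrs, RingHom.mem_ker, map_mul, map_pow]
      exact hm
    have h3 := Ideal.mem_map_of_mem (X.presheaf.germ U y hy).hom hmem
    rw [Ideal.map_ofList] at h3
    have h4 : X.presheaf.germ U y hy (f ^ m * s') = X.presheaf.germ U y hy (f ^ (m + n)) * X.presheaf.germ V y hyV s := by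
      rw [pow_add, map_mul, map_mul, mul_assoc]
      congr 1
      rw [← TopCat.Presheaf.germ_res_apply X.presheaf (homOfLE (X.basicOpen_le f)) y hyf s', ← he, map_mul,
        TopCat.Presheaf.germ_res_apply, TopCat.Presheaf.germ_res_apply, mul_comm]
    rw [show (X.presheaf.germ U y hy).hom (f ^ m * s') = _ from h4] at h3
    have hu : IsUnit (X.presheaf.germ U y hy (f ^ (m + n))) := by
      rw [map_pow]
      exact ((X.mem_basicOpen f y hy).1 hyf).pow _
    exact (Ideal.unit_mul_mem_iff_mem _ hu).1 h3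
  · obtain ⟨r, hr, rfl⟩ := List.mem_map.1 ha
    exact ⟨U, hy, r, rfl, RingHom.mem_ker.1 (hrs ▸ Ideal.subset_span hr)⟩

theorem locRegular {c : ℕ} (hi : RegImm.IsRegularImmersionOfCodim RegImm.Kind.regular c i) :
    LocRegular (idealAt i) c := by
  intro x
  by_cases hx : x ∈ Set.range i
  · obtain ⟨z, rfl⟩ := hx
    obtain ⟨U, hzU, -, rs, hlen, hreg, hker⟩ := hi.2 z
    exact ⟨U.1, U.2, rs, hzU, idealAt_eq i U.2 rs hker,
      Or.inr ⟨hlen, (show RingTheory.Sequence.IsRegular Γ(X, U.1) rs from hreg).toIsWeaklyRegular⟩⟩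
  · have hc : IsOpen (Set.range i)ᶜ := i.isClosedEmbedding.isClosed_range.isOpen_compl
    obtain ⟨U, hU, hxU, hUc⟩ := exists_isAffineOpen_mem_and_subset (x := x) (U := ⟨_, hc⟩) hx
    have hempty : i ⁻¹ᵁ U = ⊥ := by
      ext z
      simp only [Opens.coe_bot, Set.mem_empty_iff_false, iff_false]
      exact fun hz => hUc hz ⟨z, rfl⟩
    have h1 : i.app U 1 = 0 := by
      haveI : Subsingleton Γ(Z, i ⁻¹ᵁ U) := by rw [hempty]; infer_instance
      exact Subsingleton.elim _ _
    have htop : ∀ y ∈ U, idealAt i y = ⊤ := fun y hy =>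
      (Ideal.eq_top_iff_one _).2 ⟨U, hy, 1, map_one _, h1⟩
    refine ⟨U, hU, [1], hxU, fun y hy => ?_, Or.inl htop⟩
    rw [htop y hy, List.map_singleton, map_one, Ideal.ofList_singleton, Ideal.span_singleton_one]

end Groth.Agent.RegExtVanLib
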