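import Groth.Agent.RegExtVanLib.Div
import Groth.Agent.DCohLib.PerfLocFree
import Groth.Prelude.Def_RegImm
import Mathlib.CategoryTheory.Abelian.Injective.Ext

/-! Vanishing of Ext out of killed modules below the length of local regular sequences. -/

set_option autoImplicit false
set_option backward.isDefEq.respectTransparency false
set_option linter.style.haveILetI false

universe u

open CategoryTheory CategoryTheory.Limits AlgebraicGeometry TopologicalSpace Opposite
open Groth.Agent.PullbackMod Groth.Agent.DCohLib Groth.Agent.FundLocIsoLib RingTheory.Sequence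

noncomputable section

namespace Groth.Agent.RegExtVanLib

variable {X : Scheme.{u}} (I : ∀ x : X, Ideal (X.presheaf.stalk x))

/-- The module is killed by the ideals. -/
def Killed (M : X.Modules) : Prop := ∀ (x : X), ∀ a ∈ I x, ∀ z : M.presheaf.stalk x, a • z = 0

/-- The stalk elements killed by the ideals. -/
def killSub (M : X.Modules) : SubLib.StalkSub M := fun x =>
  { carrier := {v | ∀ a ∈ I x, a • v = 0}
    add_mem' := fun {v w} hv hw a ha => by rw [smul_add, hv a ha, hw a ha, add_zero]
    zero_mem' := fun a _ => smul_zero a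
    smul_mem' := fun c v hv a ha => by rw [smul_comm, hv a ha, smul_zero] }

/-- The largest killed submodule. -/
abbrev kObj (M : X.Modules) : X.Modules := SubLib.subMod (killSub I M)

/-- Its inclusion. -/
abbrev kι (M : X.Modules) : kObj I M ⟶ M := SubLib.subι (killSub I M)

theorem stalk_kι_mem (M : X.Modules) (x : X) (z : (kObj I M).presheaf.stalk x) :
    stalkLin (kι I M) x z ∈ killSub I M x := by
  obtain ⟨W, hxW, s, rfl⟩ := TopCat.Presheaf.exists_germ_eq (kObj I M).presheaf z
  rw [stalkLin_germ]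
  exact SubLib.mem_sec_of_app (killSub I M) W s x hxW

theorem killed_kObj (M : X.Modules) : Killed I (kObj I M) := fun x a ha z => by
  refine (mono_iff_stalk (kι I M)).1 inferInstance x ?_
  rw [map_smul, map_zero]
  exact stalk_kι_mem I M x z a ha

theorem killed_of_mono {A B : X.Modules} (φ : A ⟶ B) [Mono φ] (hB : Killed I B) : Killed I A := fun x a ha z => by
  refine (mono_iff_stalk φ).1 inferInstance x ?_
  rw [map_smul, map_zero]
  exact hB x a ha _

variable {I}

/-- A map out of a killed module lands in the killed part. -/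
def kLift {A M : X.Modules} (hA : Killed I A) (g : A ⟶ M) : A ⟶ kObj I M where
  val := PresheafOfModules.homMk
    { app := fun U => AddCommGrpCat.ofHom
        { toFun := fun s => (⟨g.app U.unop s, fun x hx a ha => by
            rw [← stalkLin_germ, ← map_smul, hA x a ha, map_zero]⟩ : SubLib.sec (killSub I M) U.unop)
          map_zero' := Subtype.ext (map_zero (g.app U.unop).hom)
          map_add' := fun a b => Subtype.ext (map_add (g.app U.unop).hom a b) }
      naturality := fun U V i => AddCommGrpCat.hom_ext (AddMonoidHom.ext fun s =>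
        Subtype.ext (ConcreteCategory.congr_hom (g.mapPresheaf.naturality i) s)) }
    fun U r s => Subtype.ext (Scheme.Modules.Hom.app_smul g r s)

theorem kLift_ι {A M : X.Modules} (hA : Killed I A) (g : A ⟶ M) : kLift hA g ≫ kι I M = g :=
  Scheme.Modules.hom_ext _ _ fun U => AddCommGrpCat.hom_ext (AddMonoidHom.ext fun s => rfl)

/-- Locally the ideals are trivial or generated by a regular sequence of length `c`. -/
def LocRegular (I : ∀ x : X, Ideal (X.presheaf.stalk x)) (c : ℕ) : Prop :=
  ∀ x : X, ∃ (U : X.Opens) (_ : IsAffineOpen U) (rs : List Γ(X, U)), x ∈ U ∧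
    (∀ (y : X) (hy : y ∈ U), I y = Ideal.ofList (rs.map (X.presheaf.germ U y hy).hom)) ∧
    ((∀ y ∈ U, I y = ⊤) ∨ (rs.length = c ∧ IsWeaklyRegular Γ(X, U) rs))

variable {c : ℕ} (hI : LocRegular I c)
include hI

theorem exists_stalk_kι (M : X.Modules) (x : X) (v : M.presheaf.stalk x) (hv : v ∈ killSub I M x) :
    ∃ z, stalkLin (kι I M) x z = v := by
  obtain ⟨U, hU, rs, hx, hgen, -⟩ := hI x
  obtain ⟨W₀, hxW₀, s₀, rfl⟩ := TopCat.Presheaf.exists_germ_eq M.presheaf v
  let s₁ := M.presheaf.map (homOfLE (inf_le_left : W₀ ⊓ U ≤ W₀)).op s₀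
  have hs₁ : M.presheaf.germ (W₀ ⊓ U) x ⟨hxW₀, hx⟩ s₁ = M.presheaf.germ W₀ x hxW₀ s₀ :=
    TopCat.Presheaf.germ_res_apply _ _ _ _ _
  obtain ⟨W, i, hxW, hk⟩ := exists_kill_res M hx (W := W₀ ⊓ U) ⟨hxW₀, hx⟩ inf_le_right s₁ rs fun a ha => by
    rw [hs₁]
    exact hv _ (hgen x hx ▸ Ideal.subset_span (List.mem_map_of_mem ha))
  let s := M.presheaf.map (homOfLE i).op s₁
  have hs : s ∈ SubLib.sec (killSub I M) W := fun y hy a ha => by
    have hyU : y ∈ U := (i hy).2
    rw [hgen y hyU] at ha
    refine kill_iff_span.1 (fun b hb => ?_) a ha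
    obtain ⟨r, hr, rfl⟩ := List.mem_map.1 hb
    have h := congrArg (M.presheaf.germ W y hy) (hk r hr)
    rwa [map_zero, SubLib.germ_smul', TopCat.Presheaf.germ_res_apply] at h
  refine ⟨(kObj I M).presheaf.germ W x hxW ⟨s, hs⟩, ?_⟩
  rw [stalkLin_germ]
  exact (TopCat.Presheaf.germ_res_apply _ _ _ _ _).trans hs₁

omit hI in
theorem div_of_regular {E : X.Modules} (R : InjectiveResolution E) {U : X.Opens} (hU : IsAffineOpen U) (x : X)
    (hx : x ∈ U) : ∀ (l : List Γ(X, U)), IsWeaklyRegular Γ(X, U) l.reverse →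
      Div (R := fun q => (R.cocomplex.X q).presheaf.stalk x) (l.map (X.presheaf.germ U x hx).hom)
  | [], _ => trivial
  | f :: l, h => ⟨fun q v hv => exists_div_stalk (R.cocomplex.X q) (R.injective q) hU x hx l f h v hv,
      div_of_regular R hU x hx l (prefix_regular h)⟩

/-- Below `c` the killed cocycles are killed coboundaries. -/
theorem exact_stalk {E : X.Modules} (hE : FlatMod.IsFinLocFree E) (R : InjectiveResolution E) (x : X) (q : ℕ)
    (hq : q < c) (z : (R.cocomplex.X q).presheaf.stalk x) (hz : stalkLin (R.cocomplex.d q (q + 1)) x z = 0)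
    (hk : z ∈ killSub I (R.cocomplex.X q) x) :
    (q = 0 → z = 0) ∧ ∀ j, (hj : j + 1 = q) → ∃ w ∈ killSub I (R.cocomplex.X j) x,
      stalkLin (R.cocomplex.d j q) x w = z := by
  obtain ⟨U, hU, rs, hx, hgen, htop | ⟨hlen, hreg⟩⟩ := hI x
  · have h0 : z = 0 := by
      rw [← one_smul (X.presheaf.stalk x) z]
      exact hk 1 (by rw [htop x hx]; trivial)
    exact ⟨fun _ => h0, fun j _ => ⟨0, zero_mem _, by rw [map_zero, h0]⟩⟩
  haveI := (free_finite_stalk_of_flf hE x).1
  let d : ∀ q, (R.cocomplex.X q).presheaf.stalk x →ₗ[X.presheaf.stalk x] (R.cocomplex.X (q + 1)).presheaf.stalk x :=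
    fun q => stalkLin (R.cocomplex.d q (q + 1)) x
  let ε : E.presheaf.stalk x →ₗ[X.presheaf.stalk x] (R.cocomplex.X 0).presheaf.stalk x :=
    stalkLin (show E ⟶ R.cocomplex.X 0 from R.ι.f 0) x
  have H : Res₀ d ε :=
    { inj := (mono_iff_stalk _).1 (inferInstanceAs (Mono (R.ι.f 0))) x
      zero := fun m => by
        show stalkLin _ x (stalkLin _ x m) = 0
        rw [← LinearMap.comp_apply, ← stalkLin_comp]
        exact LinearMap.congr_fun ((eq_zero_iff_stalk _).1 R.ι_f_zero_comp_complex_d x) m
      exact_zero := fun z hz => by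
        have hS : (ShortComplex.mk (show E ⟶ R.cocomplex.X 0 from R.ι.f 0) (R.cocomplex.d 0 1)
            R.ι_f_zero_comp_complex_d).Exact :=
          ShortComplex.exact_of_f_is_kernel _ R.isLimitKernelFork
        exact (ShortComplex.moduleCat_exact_iff _).1 (hS.map (stkF x)) z hz
      dd := fun q z => by
        show stalkLin _ x (stalkLin _ x z) = 0
        rw [← LinearMap.comp_apply, ← stalkLin_comp]
        exact LinearMap.congr_fun ((eq_zero_iff_stalk _).1 (R.complex_d_comp q) x) z
      exact := fun q z hz => (ShortComplex.moduleCat_exact_iff _).1 ((R.exact_succ q).map (stkF x)) z hz }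
  let l := rs.reverse.map (X.presheaf.germ U x hx).hom
  have hM : RegM (E.presheaf.stalk x) l := by
    show RegM (E.presheaf.stalk x) (rs.reverse.map (X.presheaf.germ U x hx).hom)
    rw [List.map_reverse]
    exact regM_reverse _ (weaklyRegular_germ hU x hx hreg)
  have hD : Div (R := fun q => (R.cocomplex.X q).presheaf.stalk x) l :=
    div_of_regular R hU x hx rs.reverse (by rwa [List.reverse_reverse])
  have hIl : Ideal.ofList l = I x := by
    rw [hgen x hx, show l = (rs.map (X.presheaf.germ U x hx).hom).reverse from List.map_reverse, ofList_reverse]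
  have hkl : ∀ (j : ℕ) (w : (R.cocomplex.X j).presheaf.stalk x), Kill l w ↔ w ∈ killSub I (R.cocomplex.X j) x :=
    fun j w => by rw [kill_iff_span, hIl]; rfl
  have hB := (main₀ H hD hM).1 q z (by simp [l, hlen]; omega) hz ((hkl q z).2 hk)
  refine ⟨fun h0 => ?_, fun j hj => ?_⟩
  · subst h0; exact hB
  · subst hj
    obtain ⟨w, hw, e⟩ := hB
    exact ⟨w, (hkl j w).1 hw, e⟩

/-- Ext groups from killed modules into locally free ones vanish below `c`. -/
theorem subsingleton_ext [HasExt.{u} X.Modules] {E : X.Modules} (hE : FlatMod.IsFinLocFree E) {M : X.Modules}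
    (hM : Killed I M) (q : ℕ) (hq : q < c) : Subsingleton (Abelian.Ext M E q) := by
  haveI : EnoughInjectives X.Modules := SiteBase.enoughInjectives_sheafOfModules _
  let R := injectiveResolution E
  let J : ℕ → X.Modules := fun j => R.cocomplex.X j
  let d : ∀ j, kObj I (J j) ⟶ kObj I (J (j + 1)) := fun j =>
    kLift (killed_kObj I (J j)) (kι I (J j) ≫ R.cocomplex.d j (j + 1))
  have hdι : ∀ j, d j ≫ kι I (J (j + 1)) = kι I (J j) ≫ R.cocomplex.d j (j + 1) := fun j => kLift_ι _ _
  have hdd : ∀ j, d j ≫ d (j + 1) = 0 := fun j => by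
    rw [← cancel_mono (kι I (J (j + 1 + 1))), Category.assoc, hdι, ← Category.assoc, hdι, Category.assoc,
      R.complex_d_comp, comp_zero, zero_comp]
  have hzero : c ≠ 0 → Mono (d 0) := fun h => by
    refine (mono_iff_stalk _).2 fun x => (injective_iff_map_eq_zero _).2 fun z hz => ?_
    refine (mono_iff_stalk (kι I (J 0))).1 inferInstance x ?_
    rw [map_zero]
    refine (exact_stalk hI hE R x 0 (Nat.pos_of_ne_zero h) _ ?_ (stalk_kι_mem I _ x z)).1 rfl
    rw [← LinearMap.comp_apply, ← stalkLin_comp, ← hdι, stalkLin_comp, LinearMap.comp_apply, hz, map_zero]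
  let π : ∀ j, kObj I (J j) ⟶ kernel (d (j + 1)) := fun j => kernel.lift _ (d j) (hdd j)
  have hπ : ∀ j, j + 1 < c → Epi (π j) := fun j hj => by
    refine (epi_iff_stalk _).2 fun x z => ?_
    have hz : stalkLin (R.cocomplex.d (j + 1) (j + 1 + 1)) x
        (stalkLin (kι I (J (j + 1))) x (stalkLin (kernel.ι (d (j + 1))) x z)) = 0 := by
      rw [← LinearMap.comp_apply, ← stalkLin_comp, ← hdι, stalkLin_comp, LinearMap.comp_apply,
        ← LinearMap.comp_apply (stalkLin (d (j + 1)) x), ← stalkLin_comp, kernel.condition,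
        (eq_zero_iff_stalk _).1 rfl x, LinearMap.zero_apply, map_zero]
    obtain ⟨w, hw, e⟩ := (exact_stalk hI hE R x (j + 1) hj _ hz (stalk_kι_mem I _ x _)).2 j rfl
    obtain ⟨w', rfl⟩ := exists_stalk_kι hI (J j) x w hw
    refine ⟨w', (mono_iff_stalk (kernel.ι (d (j + 1)))).1 inferInstance x ?_⟩
    refine (mono_iff_stalk (kι I (J (j + 1)))).1 inferInstance x ?_
    rw [← e, ← LinearMap.comp_apply (stalkLin (kernel.ι (d (j + 1))) x), ← stalkLin_comp,
      show π j ≫ kernel.ι (d (j + 1)) = d j from kernel.lift_ι _ _ _,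
      ← LinearMap.comp_apply (stalkLin (kι I (J (j + 1))) x), ← stalkLin_comp, hdι, stalkLin_comp,
      LinearMap.comp_apply]
  -- maps into cocycles lift
  have key : ∀ j, j < c → ∀ (A B : X.Modules), Killed I A → Killed I B → ∀ (a : A ⟶ B), Mono a →
      ∀ f : A ⟶ kernel (d j), ∃ g : B ⟶ kernel (d j), a ≫ g = f := by
    intro j
    induction j with
    | zero =>
      intro hj A B hA hB a _ f
      haveI := hzero (by omega)
      exact ⟨0, (isZero_kernel_of_mono (d 0)).eq_of_tgt _ _⟩
    | succ j ih =>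
      intro hj A B hA hB a _ f
      obtain ⟨ρ, hρ⟩ := ih (by omega) (kernel (d j)) (kObj I (J j)) (killed_of_mono I (kernel.ι (d j)) (killed_kObj I _))
        (killed_kObj I _) (kernel.ι (d j)) inferInstance (𝟙 _)
      haveI := hπ j hj
      have hker : kernel.ι (d j) ≫ π j = 0 := by
        rw [← cancel_mono (kernel.ι (d (j + 1))), Category.assoc, kernel.lift_ι, kernel.condition, zero_comp]
      have hS : (ShortComplex.mk _ _ hker).Exact := by
        refine ShortComplex.exact_of_f_is_kernel _ (KernelFork.IsLimit.ofι' _ _ fun t ht => ⟨kernel.lift _ t ?_, kernel.lift_ι _ _ _⟩)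
        change t ≫ π j = 0 at ht
        rw [show d j = π j ≫ kernel.ι (d (j + 1)) from (kernel.lift_ι _ _ _).symm, reassoc_of% ht, zero_comp]
      obtain ⟨σ, hσ⟩ : ∃ σ : kernel (d (j + 1)) ⟶ kObj I (J j), π j ≫ σ = 𝟙 _ - ρ ≫ kernel.ι (d j) :=
        ⟨_, (CokernelCofork.IsColimit.desc' hS.gIsCokernel (𝟙 _ - ρ ≫ kernel.ι (d j))
          (by rw [Preadditive.comp_sub, reassoc_of% hρ, Category.comp_id, sub_self])).2⟩
      have hσπ : σ ≫ π j = 𝟙 _ := by
        rw [← cancel_epi (π j), ← Category.assoc, hσ, Preadditive.sub_comp, Category.assoc, hker, comp_zero, sub_zero,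
          Category.id_comp, Category.comp_id]
      haveI := R.injective j
      let g₀ : B ⟶ J j := Injective.factorThru (f ≫ σ ≫ kι I (J j)) a
      refine ⟨kLift hB g₀ ≫ π j, ?_⟩
      rw [← Category.assoc, show a ≫ kLift hB g₀ = f ≫ σ from by
        rw [← cancel_mono (kι I (J j)), Category.assoc, kLift_ι, Injective.comp_factorThru, Category.assoc],
        Category.assoc, hσπ, Category.comp_id]
  refine subsingleton_of_forall_eq 0 fun α => ?_
  obtain ⟨f, hf, rfl⟩ := R.extMk_surjective α (q + 1) rfl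
  have hf' : kLift hM f ≫ d q = 0 := by
    rw [← cancel_mono (kι I (J (q + 1))), Category.assoc, hdι, ← Category.assoc, kLift_ι, hf, zero_comp]
  cases q with
  | zero =>
    haveI := hzero (by omega)
    have h0 : kLift hM f = 0 := zero_of_comp_mono (d 0) hf'
    have : f = 0 := by rw [← kLift_ι hM f, h0, zero_comp]
    subst this
    exact R.extMk_zero _ _
  | succ p =>
    obtain ⟨ρ, hρ⟩ := key p (by omega) (kernel (d p)) (kObj I (J p)) (killed_of_mono I (kernel.ι (d p)) (killed_kObj I _))
      (killed_kObj I _) (kernel.ι (d p)) inferInstance (𝟙 _)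
    haveI := hπ p hq
    have hker : kernel.ι (d p) ≫ π p = 0 := by
      rw [← cancel_mono (kernel.ι (d (p + 1))), Category.assoc, kernel.lift_ι, kernel.condition, zero_comp]
    have hS : (ShortComplex.mk _ _ hker).Exact := by
      refine ShortComplex.exact_of_f_is_kernel _ (KernelFork.IsLimit.ofι' _ _ fun t ht => ⟨kernel.lift _ t ?_, kernel.lift_ι _ _ _⟩)
      change t ≫ π p = 0 at ht
      rw [show d p = π p ≫ kernel.ι (d (p + 1)) from (kernel.lift_ι _ _ _).symm, reassoc_of% ht, zero_comp]
    obtain ⟨σ, hσ⟩ : ∃ σ : kernel (d (p + 1)) ⟶ kObj I (J p), π p ≫ σ = 𝟙 _ - ρ ≫ kernel.ι (d p) :=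
      ⟨_, (CokernelCofork.IsColimit.desc' hS.gIsCokernel (𝟙 _ - ρ ≫ kernel.ι (d p))
        (by rw [Preadditive.comp_sub, reassoc_of% hρ, Category.comp_id, sub_self])).2⟩
    have hσd : σ ≫ d p = kernel.ι (d (p + 1)) := by
      rw [← cancel_epi (π p), ← Category.assoc, hσ, Preadditive.sub_comp, Category.assoc, kernel.condition, comp_zero,
        sub_zero, Category.id_comp, kernel.lift_ι]
    rw [R.extMk_eq_zero_iff _ _ _ _ p rfl]
    refine ⟨kernel.lift _ (kLift hM f) hf' ≫ σ ≫ kι I (J p), ?_⟩
    simp only [Category.assoc]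
    rw [← hdι, ← Category.assoc σ, hσd, kernel.lift_ι_assoc, kLift_ι]

end Groth.Agent.RegExtVanLib
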